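import Cfsg.Agent.Lib.KnownA.McLSchur.CoverDefs
import Mathlib.Data.Fintype.Pi
import Mathlib.Data.ZMod.Basic
import Mathlib.GroupTheory.SemidirectProduct

/-!
The extension of the subgroup of order 729 by a group of order 3, as a semidirect product.
-/

set_option autoImplicit false
set_option maxRecDepth 100000

namespace CfsgLib.KnownA.SchurCert.McLCert

/-- The kernel side. -/
abbrev VV := Multiplicative (Fin 5 → ZMod 3)

/-- The complement. -/
abbrev WW := Multiplicative (Fin 2 → ZMod 3)

/-- The action of a generator of the complement. -/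
def mRow (k : ℕ) : Matrix (Fin 5) (Fin 5) (ZMod 3) :=
  fun i j => ((((actRows.getD k []).getD i []).getD j 0 : ℕ) : ZMod 3)

/-- The action of the complement. -/
def pMat (w : Fin 2 → ZMod 3) : Matrix (Fin 5) (Fin 5) (ZMod 3) :=
  mRow 0 ^ (w 0).val * mRow 1 ^ (w 1).val

theorem pMat_mul : ∀ w w' : Fin 2 → ZMod 3, pMat w * pMat w' = pMat (w' + w) := by decide +kernel

theorem pMat_zero : pMat 0 = 1 := by decide +kernel

/-- The automorphism of a member of the complement. -/
def actA (w : WW) : MulAut VV where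
  toFun v := Multiplicative.ofAdd (Matrix.vecMul v.toAdd (pMat w.toAdd))
  invFun v := Multiplicative.ofAdd (Matrix.vecMul v.toAdd (pMat (-w.toAdd)))
  left_inv v := by
    simp only [toAdd_ofAdd, Matrix.vecMul_vecMul, pMat_mul, neg_add_cancel, pMat_zero, Matrix.vecMul_one,
      ofAdd_toAdd]
  right_inv v := by
    simp only [toAdd_ofAdd, Matrix.vecMul_vecMul, pMat_mul, add_neg_cancel, pMat_zero, Matrix.vecMul_one,
      ofAdd_toAdd]
  map_mul' u v := by simp only [toAdd_mul, Matrix.add_vecMul, ofAdd_add]

/-- The action of the complement on the kernel side. -/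
def actH : WW →* MulAut VV where
  toFun := actA
  map_one' := MulEquiv.ext fun v => by
    show Multiplicative.ofAdd (Matrix.vecMul v.toAdd (pMat 0)) = v
    rw [pMat_zero, Matrix.vecMul_one, ofAdd_toAdd]
  map_mul' a b := MulEquiv.ext fun v => by
    show Multiplicative.ofAdd (Matrix.vecMul v.toAdd (pMat (a.toAdd + b.toAdd))) =
      Multiplicative.ofAdd (Matrix.vecMul (Matrix.vecMul v.toAdd (pMat b.toAdd)) (pMat a.toAdd))
    rw [Matrix.vecMul_vecMul, pMat_mul]

/-- The extension. -/
abbrev EE := VV ⋊[actH] WW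

/-- The exponents of a member. -/
def digV (v : VV) (i : Fin 5) : ℕ := (v.toAdd i).val

/-- The exponents of a member of the complement. -/
def digW (w : WW) (i : Fin 2) : ℕ := (w.toAdd i).val

/-- The index of the image. -/
def numVW (v : VV) (w : WW) : ℕ :=
  digV v 0 + 3 * digV v 1 + 9 * digV v 2 + 27 * digV v 3 + 81 * digW w 0 + 243 * digW w 1

/-- The word of a member of the kernel side. -/
def wordV (v : VV) : List ℕ :=
  List.replicate (digV v 0) 0 ++ List.replicate (digV v 1) 1 ++ List.replicate (digV v 2) 2 ++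
    List.replicate (digV v 3) 3

/-- The word of a member of the complement. -/
def wordW (w : WW) : List ℕ := List.replicate (digW w 0) 4 ++ List.replicate (digW w 1) 5

theorem wordI_numVW : ∀ (v : VV) (w : WW), wordI (numVW v w) = wordV v ++ wordW w := by decide +kernel

/-- A member with given index. -/
def eOf (i : ℕ) : EE :=
  ⟨Multiplicative.ofAdd fun k => if k.val < 4 then ((i / 3 ^ k.val : ℕ) : ZMod 3) else 0,
    Multiplicative.ofAdd fun k => ((i / 3 ^ (k.val + 4) : ℕ) : ZMod 3)⟩

/-- The central element. -/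
def zE : EE := ⟨Multiplicative.ofAdd (Pi.single 4 1), 1⟩

theorem fixed_num : ∀ e ∈ fixedL, numVW (eOf e.2.1).left (eOf e.2.1).right = e.2.1 ∧
    numVW (eOf e.2.2.1).left (eOf e.2.2.1).right = e.2.2.1 := by decide +kernel

theorem fixed_comm' : ∀ e ∈ fixedL,
    (eOf e.2.1 * eOf e.2.2.1).left = (zE ^ e.2.2.2 * (eOf e.2.2.1 * eOf e.2.1)).left ∧
      (eOf e.2.1 * eOf e.2.2.1).right = (zE ^ e.2.2.2 * (eOf e.2.2.1 * eOf e.2.1)).right := by
  decide +kernel

theorem fixed_comm : ∀ e ∈ fixedL,
    eOf e.2.1 * eOf e.2.2.1 = zE ^ e.2.2.2 * (eOf e.2.2.1 * eOf e.2.1) := fun e he =>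
  SemidirectProduct.ext (fixed_comm' e he).1 (fixed_comm' e he).2

theorem zE_kills : ∀ w : WW, actH w zE.left = zE.left := by decide +kernel

theorem zE_three : zE ^ 3 = 1 :=
  SemidirectProduct.ext (by decide +kernel) (by decide +kernel)

theorem zE_ne : zE ≠ 1 := fun h =>
  absurd (congrArg SemidirectProduct.left h) (by decide +kernel)

theorem numVW_eq_zero : ∀ (v : VV) (w : WW), numVW v w = 0 →
    w = 1 ∧ (v = 1 ∨ v = zE.left ∨ v = zE.left * zE.left) := by decide +kernel

theorem wordI_zero_z : numVW zE.left zE.right = 0 := by decide +kernel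

theorem v_split : ∀ v : VV, v =
    Multiplicative.ofAdd (Pi.single 0 1) ^ digV v 0 * Multiplicative.ofAdd (Pi.single 1 1) ^ digV v 1 *
      Multiplicative.ofAdd (Pi.single 2 1) ^ digV v 2 * Multiplicative.ofAdd (Pi.single 3 1) ^ digV v 3 *
      Multiplicative.ofAdd (Pi.single 4 1) ^ digV v 4 := by decide +kernel

theorem numVW_eOf' : ∀ i : Fin 729, numVW (eOf i).left (eOf i).right = i := by decide +kernel

theorem numVW_eOf (i : Fin 729) : numVW (eOf i).left (eOf i).right = i := numVW_eOf' i

theorem fix_inj : ∀ i < fixPts.length, ∀ j < fixPts.length,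
    ((List.range 24).map fun n => CfsgLib.Golay.funL (fixV i) (CfsgLib.Golay.pt n)) =
      ((List.range 24).map fun n => CfsgLib.Golay.funL (fixV j) (CfsgLib.Golay.pt n)) → i = j := by
  decide +kernel

theorem w_split : ∀ w : WW, w =
    Multiplicative.ofAdd (Pi.single 0 1) ^ digW w 0 * Multiplicative.ofAdd (Pi.single 1 1) ^ digW w 1 := by
  decide +kernel

/-- The relations of the action. -/
def conjChk : Bool :=
  (List.finRange 2).all fun k => (List.finRange 5).all fun i =>
    CfsgLib.KnownA.SchurCert.Co3Cert.eqv rowsCov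
      ([4 + k.val] ++ wordV (Multiplicative.ofAdd (Pi.single i 1)))
      (wordV (actH (Multiplicative.ofAdd (Pi.single k 1)) (Multiplicative.ofAdd (Pi.single i 1))) ++
        [4 + k.val])

theorem conj_ok : conjChk = true := by decide +kernel

end CfsgLib.KnownA.SchurCert.McLCert
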