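import Cfsg.Agent.Lib.KnownA.McLSchur.CoverChk
import Cfsg.Agent.Lib.KnownA.McLSchur.CoverGroup
import Cfsg.Agent.Lib.KnownA.CoresPair
import Cfsg.Agent.Lib.Golay.Co0McLRank

/-!
A stem extension of the McLaughlin group with kernel of order divisible by 3: the corestriction of the
extension of a subgroup of order 729, detected on a pair of commuting elements of order 3.
-/

set_option autoImplicit false
set_option maxRecDepth 100000
set_option maxHeartbeats 1000000

namespace CfsgLib.KnownA.SchurCert.McLCert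

open Cfsg CfsgLib.Golay CfsgLib.KnownA.SchurCert.Co3Cert
open scoped commutatorElement

/-- The generators describe the packed rows. -/
def GenSpec (gen : ℕ → mclGroup) : Prop :=
  ∀ (v : ℕ) (w : List ℕ),
    decV (vecW rowsCov v w) = Matrix.vecMul (decV v) (rho ((wprod gen w : mclGroup) : Co0))

variable {gen : ℕ → mclGroup}

theorem wprod_app (w w' : List ℕ) : wprod gen (w ++ w') = wprod gen w * wprod gen w' := by
  simp [wprod]

theorem wprod_one (k : ℕ) : wprod gen [k] = gen k := by simp [wprod]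

theorem wprod_rep (n k : ℕ) : wprod gen (List.replicate n k) = gen k ^ n := by simp [wprod]

theorem decV_ptV {v : List ℤ} (hl : v.length = 24) (p : GolayPt) :
    decV (ptV v) p = ((funL v p : ℤ) : ZMod 17) := by
  rw [decV, ptV, field_pack _ _ (fun a ha => by
    obtain ⟨b, -, rfl⟩ := List.mem_map.1 ha
    omega), funL]
  have hp : idx p < v.length := hl ▸ idx_lt p
  rw [List.getD_eq_getElem _ _ (by rwa [List.length_map]), List.getElem_map, List.getD_eq_getElem _ _ hp,
    ← Int.cast_natCast, Int.toNat_of_nonneg (Int.emod_nonneg _ (by norm_num))]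
  exact (ZMod.intCast_eq_intCast_iff' _ _ 17).2 (Int.emod_emod _ _)

/-- A checked list of coordinates is one of the 275 vectors. -/
theorem exists_pt {v : List ℤ} (h : chkPt v = true) :
    ∃ Y : leechLattice, Y ∈ mclPoints ∧ (Y : GolayPt → ℤ) = funL v ∧ v.length = 24 := by
  simp only [chkPt, Bool.and_eq_true, decide_eq_true_iff] at h
  obtain ⟨⟨⟨⟨hl, hin⟩, h1⟩, h2⟩, h3⟩ := h
  have hl' := Nat.eq_of_beq_eq_true hl
  rw [dotL_eq_dotInt hl' hl'] at h1
  rw [dotL_eq_dotInt (by decide) hl', funL_fiveL] at h2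
  rw [dotL_eq_dotInt (by decide) hl', funL_minL] at h3
  refine ⟨⟨funL v, inLat_mem (inLat_of_inLatL hin)⟩, ⟨?_, h2, h3⟩, rfl, hl'⟩
  show sqNorm (funL v) = 32
  rw [← h1, sqNorm, dotInt]
  exact Finset.sum_congr rfl fun i _ => pow_two _

theorem pts_eq_mod {Y Z : leechLattice} (hY : Y ∈ mclPoints) (hZ : Z ∈ mclPoints)
    (h : ∀ p, (((Y : GolayPt → ℤ) p : ℤ) : ZMod 17) = (((Z : GolayPt → ℤ) p : ℤ) : ZMod 17)) : Y = Z := by
  have hb : ∀ {U : leechLattice}, U ∈ mclPoints → ∀ p, (U : GolayPt → ℤ) p ≤ 5 ∧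
      -5 ≤ (U : GolayPt → ℤ) p := fun {U} hU p => by
    have : (U : GolayPt → ℤ) p ^ 2 ≤ 32 := by
      rw [← hU.1, sqNorm]
      exact Finset.single_le_sum (f := fun q => (U : GolayPt → ℤ) q ^ 2)
        (fun q _ => sq_nonneg _) (Finset.mem_univ p)
    constructor <;> nlinarith
  refine Subtype.ext (funext fun p => ?_)
  have h1 := (ZMod.intCast_eq_intCast_iff' _ _ 17).1 (h p)
  have := hb hY p
  have := hb hZ p
  omega

theorem smul_mem_pts (g : mclGroup) {Y : leechLattice} (hY : Y ∈ mclPoints) :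
    g • Y ∈ mclPoints := by
  obtain ⟨h1, h2, h3⟩ := hY
  refine ⟨(co0_sq _ _).trans h1, ?_, ?_⟩
  · have := co0_dot (g : Co0) fiveV Y
    rw [MulAction.mem_stabilizer_iff.1 g.2.1] at this
    exact this.trans h2
  · have := co0_dot (g : Co0) min44 Y
    rw [MulAction.mem_stabilizer_iff.1 g.2.2] at this
    exact this.trans h3

/-- The row vector of a lattice vector times the matrix of an element. -/
theorem vecMul_rho (g : Co0) (Y : leechLattice) (p : GolayPt) :
    Matrix.vecMul (fun q => (((Y : GolayPt → ℤ) q : ℤ) : ZMod 17)) (rho g) p =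
      ((((g⁻¹ • Y : leechLattice) : GolayPt → ℤ) p : ℤ) : ZMod 17) := by
  have h := co0_dot g⁻¹ Y (g • vec8 p)
  rw [inv_smul_smul] at h
  have h8 : dotInt ((g⁻¹ • Y : leechLattice) : GolayPt → ℤ) (vec8 p : GolayPt → ℤ) =
      8 * ((g⁻¹ • Y : leechLattice) : GolayPt → ℤ) p := by
    rw [dotInt, Finset.sum_eq_single p]
    · simp [vec8, mul_comm]
    · intro q _ hq; simp [vec8, hq]
    · simp
  rw [h8] at h
  simp only [Matrix.vecMul, dotProduct, rho]
  have e := congrArg (fun z : ℤ => (15 : ZMod 17) * (z : ZMod 17)) h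
  simp only [dotInt, Int.cast_mul, Int.cast_sum, Int.cast_ofNat, Finset.mul_sum] at e
  rw [← mul_assoc, show (15 : ZMod 17) * 8 = 1 by decide, one_mul] at e
  rw [e]
  refine Finset.sum_congr rfl fun q _ => ?_
  push_cast
  ring

theorem smul_of_moveL (hgen : GenSpec gen) {v v' : List ℤ} {w : List ℕ} {Y Y' : leechLattice}
    (hY : Y ∈ mclPoints) (hY' : Y' ∈ mclPoints) (hv : (Y : GolayPt → ℤ) = funL v)
    (hv' : (Y' : GolayPt → ℤ) = funL v') (hl : v.length = 24) (hl' : v'.length = 24)
    (h : moveL v w v' = true) : (wprod gen w)⁻¹ • Y = Y' := by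
  rw [moveL, sameV_iff, hgen] at h
  refine pts_eq_mod (smul_mem_pts _ hY) hY' fun p => ?_
  have e1 : decV (ptV v) = fun q => (((Y : GolayPt → ℤ) q : ℤ) : ZMod 17) :=
    funext fun q => by rw [decV_ptV hl, hv]
  have := congrFun h p
  rw [e1, vecMul_rho, decV_ptV hl', ← hv'] at this
  rw [← this]
  rfl

theorem moveL_of_smul (hgen : GenSpec gen) {v : List ℤ} {w : List ℕ} {Y : leechLattice}
    (hv : (Y : GolayPt → ℤ) = funL v) (hl : v.length = 24) (h : (wprod gen w)⁻¹ • Y = Y) :
    moveL v w v = true := by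
  rw [moveL, sameV_iff, hgen]
  funext p
  rw [show decV (ptV v) = fun q => (((Y : GolayPt → ℤ) q : ℤ) : ZMod 17) from
    funext fun q => by rw [decV_ptV hl, hv], vecMul_rho]
  exact congrArg (fun U : leechLattice => (((U : GolayPt → ℤ) p : ℤ) : ZMod 17)) h

theorem notIn_spec : ∀ {l : List ℕ} {c : ℕ}, notIn c l = true → c ∉ l
  | [], _, _ => List.not_mem_nil
  | a :: l, c, h => by
    simp only [notIn, Bool.and_eq_true, Bool.not_eq_true'] at h
    rw [List.mem_cons, not_or]
    refine ⟨fun e => ?_, notIn_spec h.2⟩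
    rw [e, Nat.beq_refl] at h
    exact Bool.noConfusion h.1

theorem nodupB_spec : ∀ {l : List ℕ}, nodupB l = true → l.Nodup
  | [], _ => List.nodup_nil
  | a :: l, h => by
    simp only [nodupB, Bool.and_eq_true] at h
    exact List.nodup_cons.2 ⟨notIn_spec h.1, nodupB_spec h.2⟩

theorem codeW_congr (hgen : GenSpec gen) {w w' : List ℕ} (h : wprod gen w = wprod gen w') :
    codeW w = codeW w' := by
  have hs : sameV (vecW rowsCov testVec w) (vecW rowsCov testVec w') = true := by
    rw [sameV_iff, hgen, hgen, h]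
  simp only [sameV, List.all_eq_true, List.mem_range] at hs
  exact congrArg pack (List.map_congr_left fun j hj => Nat.eq_of_beq_eq_true (hs j (List.mem_range.1 hj)))

theorem eqv_eq (hgen : GenSpec gen) {w w' : List ℕ} (h : eqv rowsCov w w' = true) :
    wprod gen w = wprod gen w' := eqv_sound hgen h

/-- The product of powers of four commuting elements of order 3. -/
def f1Fun (gen : ℕ → mclGroup) (v : VV) : mclGroup :=
  gen 0 ^ digV v 0 * gen 1 ^ digV v 1 * gen 2 ^ digV v 2 * gen 3 ^ digV v 3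

theorem pow_add_three {M : Type*} [Monoid M] {g : M} (h : g ^ 3 = 1) (a b : ZMod 3) :
    g ^ (a + b).val = g ^ a.val * g ^ b.val := by
  rw [← pow_add, ZMod.val_add, ← pow_eq_pow_mod _ h]

theorem gen_three (hgen : GenSpec gen) {k : ℕ} (hk : k < 8) : gen k ^ 3 = 1 := by
  have h := rel_ok
  simp only [relChk, Bool.and_eq_true, List.all_eq_true, List.mem_range] at h
  have := eqv_eq hgen (h.1.1.1 k hk)
  rw [show [k, k, k] = List.replicate 3 k from rfl, wprod_rep] at this
  exact this

theorem gen_commV (hgen : GenSpec gen) {i j : ℕ} (hi : i < 4) (hj : j < 4) :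
    Commute (gen i) (gen j) := by
  have h := rel_ok
  simp only [relChk, Bool.and_eq_true, List.all_eq_true, List.mem_range] at h
  simpa [wprod, Commute, SemiconjBy] using eqv_eq hgen (h.1.1.2 i hi j hj)

theorem gen_comm45 (hgen : GenSpec gen) : Commute (gen 4) (gen 5) := by
  have h := rel_ok
  simp only [relChk, Bool.and_eq_true] at h
  simpa [wprod, Commute, SemiconjBy] using eqv_eq hgen h.1.2

theorem gen_comm67 (hgen : GenSpec gen) : Commute (gen 6) (gen 7) := by
  have h := rel_ok
  simp only [relChk, Bool.and_eq_true] at h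
  simpa [wprod, Commute, SemiconjBy] using eqv_eq hgen h.2

/-- The map on the kernel side. -/
def f1 (hgen : GenSpec gen) : VV →* mclGroup := MonoidHom.mk' (f1Fun gen) fun u v => by
  have c := fun (i j : ℕ) (a b : ℕ) (hi : i < 4) (hj : j < 4) =>
    ((gen_commV hgen hi hj).pow_pow a b)
  have p := fun (i : ℕ) (hi : i < 4) => pow_add_three (gen_three hgen (k := i) (by omega))
  simp only [f1Fun, digV, toAdd_mul, Pi.add_apply]
  rw [p 0 (by omega), p 1 (by omega), p 2 (by omega), p 3 (by omega)]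
  rw [(c 0 1 _ _ (by omega) (by omega)).mul_mul_mul_comm,
    ((c 0 2 _ _ (by omega) (by omega)).mul_left (c 1 2 _ _ (by omega) (by omega))).mul_mul_mul_comm,
    (((c 0 3 _ _ (by omega) (by omega)).mul_left (c 1 3 _ _ (by omega) (by omega))).mul_left
      (c 2 3 _ _ (by omega) (by omega))).mul_mul_mul_comm]

/-- A map from two commuting elements of order 3. -/
def pairHom (a b : mclGroup) (ha : a ^ 3 = 1) (hb : b ^ 3 = 1) (hab : Commute a b) : WW →* mclGroup :=
  MonoidHom.mk' (fun w => a ^ digW w 0 * b ^ digW w 1) fun u v => by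
    simp only [digW, toAdd_mul, Pi.add_apply]
    rw [pow_add_three ha, pow_add_three hb, (hab.pow_pow _ _).mul_mul_mul_comm]

/-- The map on the complement. -/
def f2 (hgen : GenSpec gen) : WW →* mclGroup :=
  pairHom (gen 4) (gen 5) (gen_three hgen (by omega)) (gen_three hgen (by omega)) (gen_comm45 hgen)

theorem f1_word (hgen : GenSpec gen) (v : VV) : f1 hgen v = wprod gen (wordV v) := by
  simp only [wordV, wprod_app, wprod_rep]
  rfl

theorem f2_word (hgen : GenSpec gen) (w : WW) : f2 hgen w = wprod gen (wordW w) := by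
  simp only [wordW, wprod_app, wprod_rep]
  rfl

theorem f2_single (hgen : GenSpec gen) (k : Fin 2) :
    f2 hgen (Multiplicative.ofAdd (Pi.single k 1)) = gen (4 + k.val) := by
  fin_cases k <;> (rw [f2_word]; exact wprod_one _)

theorem compat (hgen : GenSpec gen) (w : WW) :
    (f1 hgen).comp (actH w).toMonoidHom = (MulAut.conj (f2 hgen w)).toMonoidHom.comp (f1 hgen) := by
  have key : ∀ (k : Fin 2) (v : VV), f1 hgen (actH (Multiplicative.ofAdd (Pi.single k 1)) v) =
      MulAut.conj (f2 hgen (Multiplicative.ofAdd (Pi.single k 1))) (f1 hgen v) := by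
    intro k v
    have hi : ∀ i : Fin 5,
        f1 hgen (actH (Multiplicative.ofAdd (Pi.single k 1)) (Multiplicative.ofAdd (Pi.single i 1))) =
        MulAut.conj (f2 hgen (Multiplicative.ofAdd (Pi.single k 1)))
          (f1 hgen (Multiplicative.ofAdd (Pi.single i 1))) := fun i => by
      have h := conj_ok
      simp only [conjChk, List.all_eq_true, List.mem_finRange, forall_const] at h
      have e := eqv_eq hgen (h k i)
      rw [wprod_app, wprod_app, wprod_one, ← f1_word hgen, ← f1_word hgen] at e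
      rw [MulAut.conj_apply, f2_single, e, mul_inv_cancel_right]
    rw [v_split v]
    simp only [map_mul, map_pow, hi]
  have key' : ∀ v : VV, f1 hgen (actH w v) = MulAut.conj (f2 hgen w) (f1 hgen v) := by
    rw [w_split w]
    suffices H : ∀ n : ℕ, ∀ k : Fin 2, ∀ v : VV,
        f1 hgen (actH (Multiplicative.ofAdd (Pi.single k 1) ^ n) v) =
          MulAut.conj (f2 hgen (Multiplicative.ofAdd (Pi.single k 1) ^ n)) (f1 hgen v) by
      intro v
      rw [map_mul actH, map_mul (f2 hgen), map_mul MulAut.conj, MulAut.mul_apply, MulAut.mul_apply, H, H]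
    intro n k
    induction n with
    | zero => intro v; simp
    | succ n ih =>
      intro v
      rw [pow_succ, map_mul actH, map_mul (f2 hgen), map_mul MulAut.conj, MulAut.mul_apply, MulAut.mul_apply,
        ih, key]
  exact MonoidHom.ext key'

/-- The map of the extension to the group. -/
def piE (hgen : GenSpec gen) : EE →* mclGroup :=
  SemidirectProduct.lift (f1 hgen) (f2 hgen) (compat hgen)

theorem piE_apply (hgen : GenSpec gen) (e : EE) :
    piE hgen e = wprod gen (wordI (numVW e.left e.right)) := by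
  rw [wordI_numVW, wprod_app, ← f1_word hgen, ← f2_word hgen]
  rfl

theorem numVW_lt (v : VV) (w : WW) : numVW v w < 729 := by
  have h1 := fun i => ZMod.val_lt (v.toAdd i)
  have h2 := fun i => ZMod.val_lt (w.toAdd i)
  have := h1 0; have := h1 1; have := h1 2; have := h1 3; have := h2 0; have := h2 1
  simp only [numVW, digV, digW]
  omega

theorem not_mem_range (hgen : GenSpec gen) {w : List ℕ} (h : notIn (codeW w) tblP = true) :
    wprod gen w ∉ (piE hgen).range := by
  rintro ⟨e, he⟩
  refine notIn_spec h ?_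
  have ht := tbl_ok
  simp only [tblChk, Bool.and_eq_true, decide_eq_true_iff] at ht
  rw [codeW_congr hgen (he.symm.trans (piE_apply hgen e)), ht.1]
  exact List.mem_map_of_mem (List.mem_range.2 (numVW_lt _ _))

theorem code_inj (hgen : GenSpec gen) {i j : ℕ} (hi : i < 729) (hj : j < 729)
    (h : wprod gen (wordI i) = wprod gen (wordI j)) : i = j := by
  have ht := tbl_ok
  simp only [tblChk, Bool.and_eq_true, decide_eq_true_iff] at ht
  have hn := nodupB_spec ht.2
  rw [ht.1] at hn
  exact List.inj_on_of_nodup_map hn (List.mem_range.2 hi) (List.mem_range.2 hj) (codeW_congr hgen h)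

theorem wordI_zero : wordI 0 = [] := by decide +kernel

theorem ker_central (hgen : GenSpec gen) : (piE hgen).ker ≤ Subgroup.center EE := by
  intro e he
  rw [MonoidHom.mem_ker, piE_apply] at he
  have h0 := code_inj hgen (numVW_lt _ _) (by norm_num : (0 : ℕ) < 729)
    (by rw [he, wordI_zero]; rfl)
  obtain ⟨hw, hv⟩ := numVW_eq_zero _ _ h0
  rw [Subgroup.mem_center_iff]
  intro g
  have hfix : actH g.right e.left = e.left := by
    rcases hv with hv | hv | hv <;> rw [hv] <;> simp [map_mul, zE_kills]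
  refine SemidirectProduct.ext ?_ ?_
  · rw [SemidirectProduct.mul_left, SemidirectProduct.mul_left, hfix, hw, map_one, MulAut.one_apply,
      mul_comm]
  · rw [SemidirectProduct.mul_right, SemidirectProduct.mul_right, hw, one_mul, mul_one]

theorem card_pairStab {A B : leechLattice} (hA : A ∈ mclPoints) (hB : B ∈ mclPoints)
    (hAB : dotInt (A : GolayPt → ℤ) B = 8) :
    Nat.card (MulAction.stabilizer mclGroup A ⊓ MulAction.stabilizer mclGroup B :
      Subgroup mclGroup) = 29160 := by
  let K := MulAction.stabilizer mclGroup A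
  let H : Subgroup K := MulAction.stabilizer K B
  have hA' : MulAction.orbit mclGroup A = mclPoints := by
    ext y
    constructor
    · rintro ⟨g, rfl⟩; exact smul_mem_pts g hA
    · intro hy
      obtain ⟨g, g1, g2, g3⟩ := mcl_trans hA hy
      exact ⟨⟨g, g1, g2⟩, g3⟩
  have hP : ∀ z : leechLattice, z ∈ mclPoints ↔ sqNorm (z : GolayPt → ℤ) = 32 ∧
      sqNorm (((fiveV : leechLattice) : GolayPt → ℤ) - (z : GolayPt → ℤ)) = 32 ∧
      dotInt ((min44 : leechLattice) : GolayPt → ℤ) z = 16 := fun z => by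
    simp only [mclPoints, Set.mem_setOf_eq]
    exact and_congr_right fun hz => by rw [dot_of_diff fiveV_norm hz]
  obtain ⟨c1, -, c3⟩ := mclAt_rank3 (v := min44) fiveV_norm ⟨min44_norm,
    (dot_of_diff fiveV_norm min44_norm).2 (by rw [dotInt_comm]; exact fiveV_min44)⟩
    (fun z => z ∈ mclPoints) hP hA
  have hne : ∀ {y : leechLattice}, dotInt (A : GolayPt → ℤ) y = 8 → y ≠ A := by
    rintro y hy rfl
    have : dotInt (y : GolayPt → ℤ) y = 32 := by
      rw [← hA.1, dotInt, sqNorm]; exact Finset.sum_congr rfl fun i _ => (pow_two _).symm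
    omega
  have hB' : MulAction.orbit K B =
      {y : leechLattice | y ∈ mclPoints ∧ dotInt (A : GolayPt → ℤ) y = 8} := by
    ext y
    constructor
    · rintro ⟨g, rfl⟩
      refine ⟨smul_mem_pts (g : mclGroup) hB, ?_⟩
      have := co0_dot ((g : mclGroup) : Co0) A B
      rw [show ((g : mclGroup) : Co0) • A = A from MulAction.mem_stabilizer_iff.1 g.2] at this
      exact this.trans hAB
    · rintro ⟨hy, hd⟩
      obtain ⟨g, g1, g2, g3, g4⟩ := c3 B y hB hy (hne hAB) (hne hd) (hAB.trans hd.symm)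
      exact ⟨⟨⟨g, g1, g2⟩, g3⟩, g4⟩
  have e1 : Nat.card K * 275 = 898128000 := by
    have h := K.card_mul_index
    rwa [MulAction.index_stabilizer, hA', ncard_mclPoints, card_mclGroup] at h
  have e2 : Nat.card H * 112 = Nat.card K := by
    have h := H.card_mul_index
    rwa [MulAction.index_stabilizer, hB', c1] at h
  have e3 : Nat.card (MulAction.stabilizer mclGroup A ⊓ MulAction.stabilizer mclGroup B :
      Subgroup mclGroup) = Nat.card H := Nat.card_congr
    { toFun := fun a => ⟨⟨a.1, a.2.1⟩, a.2.2⟩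
      invFun := fun a => ⟨a.1.1, a.1.2, a.2⟩
      left_inv := fun _ => rfl
      right_inv := fun _ => rfl }
  omega

theorem cyclic_below {x y : mclGroup} (hx : x ^ 3 = 1) (hy : y ^ 3 = 1) (hxy : Commute x y)
    (D : Subgroup mclGroup) (hD : D ≤ Subgroup.closure {x, y}) (hne : D ≠ Subgroup.closure {x, y}) :
    IsCyclic D := by
  haveI : Finite mclGroup := Nat.finite_of_card_ne_zero (by rw [card_mclGroup]; norm_num)
  let C : Subgroup mclGroup := Subgroup.closure {x, y}
  have hle : C ≤ (pairHom x y hx hy hxy).range := (Subgroup.closure_le _).2 (by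
    rintro g (rfl | rfl)
    · exact ⟨Multiplicative.ofAdd (Pi.single 0 1), by
        show g ^ (1 : ZMod 3).val * y ^ (0 : ZMod 3).val = g
        rw [ZMod.val_one, ZMod.val_zero, pow_zero, pow_one, mul_one]⟩
    · exact ⟨Multiplicative.ofAdd (Pi.single 1 1), by
        show x ^ (0 : ZMod 3).val * g ^ (1 : ZMod 3).val = g
        rw [ZMod.val_one, ZMod.val_zero, pow_zero, pow_one, one_mul]⟩)
  have h9 : Nat.card C ∣ 9 := by
    refine ((Subgroup.card_dvd_of_le hle).trans (Subgroup.card_range_dvd _)).trans ?_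
    rw [Nat.card_eq_fintype_card]
    decide
  have hDC : Nat.card D ∣ Nat.card C := Subgroup.card_dvd_of_le hD
  obtain ⟨i, hi, hi'⟩ := (Nat.dvd_prime_pow Nat.prime_three).1 (show Nat.card D ∣ 3 ^ 2 from hDC.trans h9)
  have hle1 : i ≤ 1 := by
    by_contra h
    have : i = 2 := by omega
    subst this
    refine hne (SetLike.coe_injective (Set.eq_of_subset_of_ncard_le hD ?_ (Set.toFinite _)))
    rw [← Nat.card_coe_set_eq, ← Nat.card_coe_set_eq]
    show Nat.card C ≤ Nat.card D
    rw [hi']
    exact Nat.le_of_dvd (by norm_num) h9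
  have : Fact (Nat.Prime 3) := ⟨Nat.prime_three⟩
  exact isCyclic_of_card_dvd_prime (p := 3) (hi' ▸ (pow_dvd_pow 3 hle1).trans (pow_one 3).dvd)

set_option maxHeartbeats 4000000 in
/-- A stem extension with kernel of order divisible by 3. -/
theorem exists_stem_three : ∃ (Γ : Type) (_ : Group Γ) (_ : Finite Γ) (τ : Γ →* mclGroup),
    Cfsg.IsStemExtension τ ∧ 3 ∣ Nat.card τ.ker := by
  classical
  obtain ⟨gen, hgen⟩ := exists_gen matsCov_ok
  have hgen : GenSpec gen := hgen
  haveI : Finite mclGroup := Nat.finite_of_card_ne_zero (by rw [card_mclGroup]; norm_num)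
  have hpts := pts_ok
  simp only [ptsChk, Bool.and_eq_true, List.all_eq_true, decide_eq_true_iff] at hpts
  obtain ⟨⟨⟨⟨⟨hlen, hchk⟩, hnd⟩, hcA⟩, hcB⟩, hdAB⟩ := hpts
  obtain ⟨A, hA, eA, lA⟩ := exists_pt hcA
  obtain ⟨B, hB, eB, lB⟩ := exists_pt hcB
  have hAB : dotInt (A : GolayPt → ℤ) B = 8 := by rw [eA, eB, ← dotL_eq_dotInt lA lB]; exact hdAB
  -- every vector is listed
  have hlist : ∀ Y ∈ mclPoints, ∃ v ∈ pts275, (Y : GolayPt → ℤ) = funL v := by
    choose f hf using fun i : Fin pts275.length => exists_pt (hchk _ (List.get_mem pts275 i))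
    have hinj : Function.Injective f := fun i j e => by
      have e' : ptV (pts275.get i) = ptV (pts275.get j) := by
        have hs : sameV (ptV (pts275.get i)) (ptV (pts275.get j)) = true := by
          rw [sameV_iff]; funext p
          rw [decV_ptV (hf i).2.2, decV_ptV (hf j).2.2, ← (hf i).2.1, ← (hf j).2.1, e]
        simp only [sameV, List.all_eq_true, List.mem_range] at hs
        have hfun : funL (pts275.get i) = funL (pts275.get j) := by rw [← (hf i).2.1, ← (hf j).2.1, e]
        refine congrArg pack (congrArg (List.map _) (List.ext_getElem ((hf i).2.2.trans (hf j).2.2.symm)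
          fun n h1 h2 => ?_))
        have hn : n < 24 := (hf i).2.2 ▸ h1
        have := congrFun hfun (pt n)
        simp only [funL, idx_pt hn] at this
        rwa [List.getD_eq_getElem _ _ h1, List.getD_eq_getElem _ _ h2] at this
      have hn := nodupB_spec hnd
      have := (List.Nodup.getElem_inj_iff hn (i := i.1) (j := j.1)
        (hi := by rw [List.length_map]; exact i.2) (hj := by rw [List.length_map]; exact j.2)).1
        (by rw [List.getElem_map, List.getElem_map]; exact e')
      exact Fin.ext this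
    have himg : Set.range f = mclPoints := by
      refine Set.eq_of_subset_of_ncard_le ?_ ?_ mclPoints_finite
      · rintro _ ⟨i, rfl⟩; exact (hf i).1
      · rw [Set.ncard_range_of_injective hinj, Nat.card_fin, ncard_mclPoints]
        exact (Nat.eq_of_beq_eq_true hlen).le
    intro Y hY
    obtain ⟨i, rfl⟩ := himg.ge hY
    exact ⟨_, List.get_mem pts275 i, (hf i).2.1⟩
  -- the fixed vectors
  have hfix := fix_ok
  simp only [fixChk, Bool.and_eq_true, List.all_eq_true, decide_eq_true_iff, List.mem_range,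
    Bool.or_eq_true, Bool.not_eq_true', decide_eq_false_iff_not, List.any_eq_true] at hfix
  obtain ⟨⟨hflist, hfchk⟩, hadj⟩ := hfix
  have fixV_chk : ∀ i < fixPts.length, chkPt (fixV i) = true := fun i hi => by
    rw [fixV, List.getD_eq_getElem _ _ hi]; exact hfchk _ (List.getElem_mem _)
  have hfixed : ∀ Y ∈ mclPoints, gen 6 • Y = Y → gen 7 • Y = Y →
      ∃ i < fixPts.length, (Y : GolayPt → ℤ) = funL (fixV i) := by
    intro Y hY h6 h7
    obtain ⟨v, hv, eY⟩ := hlist Y hY
    have lv : v.length = 24 := by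
      have := hchk v hv
      simp only [chkPt, Bool.and_eq_true] at this
      exact Nat.eq_of_beq_eq_true this.1.1.1.1
    have hm : ∀ k, gen k • Y = Y → moveL v [k] v = true := fun k hk =>
      moveL_of_smul hgen eY lv (by rw [wprod_one, inv_smul_eq_iff, hk])
    have hmem : ptV v ∈ fixPts.map ptV := by
      rw [← hflist]
      exact List.mem_map_of_mem (List.mem_filter.2 ⟨hv, by rw [hm 6 h6, hm 7 h7]; rfl⟩)
    obtain ⟨i, hi, ei⟩ := List.getElem_of_mem hmem
    rw [List.length_map] at hi
    rw [List.getElem_map] at ei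
    obtain ⟨Z, hZ, eZ, lZ⟩ := exists_pt (fixV_chk i hi)
    refine ⟨i, hi, ?_⟩
    rw [← eZ]
    refine congrArg Subtype.val (pts_eq_mod hY hZ fun p => ?_)
    rw [eY, eZ, ← decV_ptV lv, ← decV_ptV lZ, ← ei, fixV, List.getD_eq_getElem _ _ hi]
  -- the words
  have hmv := move_ok
  simp only [moveChk, Bool.and_eq_true, List.all_eq_true, List.mem_range] at hmv
  obtain ⟨⟨⟨⟨⟨hpl, hrl⟩, hpair⟩, hpnd⟩, hrep⟩, hsix⟩ := hmv
  have hpl' := Nat.eq_of_beq_eq_true hpl
  have hrl' := Nat.eq_of_beq_eq_true hrl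
  let S : Subgroup mclGroup := MulAction.stabilizer mclGroup A ⊓ MulAction.stabilizer mclGroup B
  have hS6 : ∀ k < 6, gen k ∈ S := fun k hk => by
    have h1 := smul_of_moveL hgen hA hA eA eA lA lA (hsix k hk).1
    have h2 := smul_of_moveL hgen hB hB eB eB lB lB (hsix k hk).2
    rw [wprod_one] at h1 h2
    exact ⟨inv_smul_eq_iff.1 h1 |>.symm, inv_smul_eq_iff.1 h2 |>.symm⟩
  have hrange : (piE hgen).range ≤ S := by
    rintro _ ⟨e, rfl⟩
    rw [piE_apply, wprod]
    refine Subgroup.list_prod_mem _ fun g hg => ?_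
    obtain ⟨k, hk, rfl⟩ := List.mem_map.1 hg
    simp only [wordI, List.mem_flatMap, List.mem_range, List.mem_replicate] at hk
    obtain ⟨k', hk', -, rfl⟩ := hk
    exact hS6 k hk'
  -- representatives
  let t : ℕ → mclGroup := fun j => wprod gen (repW j).1
  let g1 : ℕ → mclGroup := fun p => wprod gen (pairW p).1
  have ht : ∀ j < 40, t j ∈ S ∧ (t j)⁻¹ = wprod gen (repW j).2 := fun j hj => by
    have hm : repW j ∈ repsL := by
      rw [repW, List.getD_eq_getElem _ _ (hrl'.symm ▸ hj)]; exact List.getElem_mem _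
    obtain ⟨⟨m1, m2⟩, m3⟩ := hrep _ hm
    have h1 := smul_of_moveL hgen hA hA eA eA lA lA m1
    have h2 := smul_of_moveL hgen hB hB eB eB lB lB m2
    have h3 := eqv_eq hgen m3
    rw [wprod_app] at h3
    exact ⟨⟨inv_smul_eq_iff.1 h1 |>.symm, inv_smul_eq_iff.1 h2 |>.symm⟩, inv_eq_of_mul_eq_one_right h3⟩
  have hcos : ∀ i < 40, ∀ j < 40, (t i)⁻¹ * t j ∈ (piE hgen).range → i = j := by
    have h := rep_ok
    simp only [repChk, List.all_eq_true, List.mem_range] at h
    have h' : ∀ j < 40, ∀ i < j, (t i)⁻¹ * t j ∉ (piE hgen).range := fun j hj i hi hm => by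
      rw [(ht i (by omega)).2, ← wprod_app] at hm
      exact not_mem_range hgen (h j hj i hi) hm
    intro i hi j hj hm
    rcases lt_trichotomy i j with h1 | h1 | h1
    · exact absurd hm (h' j hj i h1)
    · exact h1
    · have := (piE hgen).range.inv_mem hm
      rw [mul_inv_rev, inv_inv] at this
      exact absurd this (h' i hi j h1)
  have hcover : ∀ s ∈ S, ∃ j < 40, (t j)⁻¹ * s ∈ (piE hgen).range := by
    let F : Fin 40 × Fin 729 → S := fun a => ⟨t a.1 * wprod gen (wordI a.2), S.mul_mem (ht _ a.1.2).1 (by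
      refine Subgroup.list_prod_mem _ fun g hg => ?_
      obtain ⟨k, hk, rfl⟩ := List.mem_map.1 hg
      simp only [wordI, List.mem_flatMap, List.mem_range, List.mem_replicate] at hk
      obtain ⟨k', hk', -, rfl⟩ := hk
      exact hS6 k hk')⟩
    have hw : ∀ i : Fin 729, wprod gen (wordI i) ∈ (piE hgen).range := fun i => by
      refine ⟨eOf i, ?_⟩
      rw [piE_apply]
      congr 1
      exact congrArg wordI (numVW_eOf i)
    have hF : Function.Injective F := fun a b e => by
      have e' : t a.1 * wprod gen (wordI a.2) = t b.1 * wprod gen (wordI b.2) := congrArg Subtype.val e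
      have h1 : (a.1 : ℕ) = b.1 := hcos _ a.1.2 _ b.1.2 (by
        rw [show (t a.1)⁻¹ * t b.1 = wprod gen (wordI a.2) * (wprod gen (wordI b.2))⁻¹ by
          rw [eq_mul_inv_iff_mul_eq, mul_assoc, ← e', inv_mul_cancel_left]]
        exact Subgroup.mul_mem _ (hw _) (Subgroup.inv_mem _ (hw _)))
      rw [h1, mul_right_inj] at e'
      exact Prod.ext (Fin.ext h1) (Fin.ext (code_inj hgen a.2.2 b.2.2 e'))
    haveI : Finite S := inferInstance
    have hsurj : Function.Surjective F := by
      refine (Function.Injective.bijective_of_nat_card_le hF ?_).2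
      rw [card_pairStab hA hB hAB, Nat.card_prod, Nat.card_fin, Nat.card_fin]
    intro s hs
    obtain ⟨a, ha⟩ := hsurj ⟨s, hs⟩
    refine ⟨a.1, a.1.2, ?_⟩
    have ha' : t a.1 * wprod gen (wordI a.2) = s := congrArg Subtype.val ha
    rw [← ha', inv_mul_cancel_left]
    exact hw _
  have hp : ∀ p < 20, ∃ Ya Yb : leechLattice, (g1 p)⁻¹ • Ya = A ∧ (g1 p)⁻¹ • Yb = B ∧
      (Ya : GolayPt → ℤ) = funL (fixV (pairsL.getD p ((0, 0), [], [])).1.1) ∧
      (Yb : GolayPt → ℤ) = funL (fixV (pairsL.getD p ((0, 0), [], [])).1.2) ∧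
      (g1 p)⁻¹ = wprod gen (pairW p).2 := fun p hp => by
    have hm : pairsL.getD p ((0, 0), [], []) ∈ pairsL := by
      rw [List.getD_eq_getElem _ _ (hpl'.symm ▸ hp)]; exact List.getElem_mem _
    obtain ⟨⟨⟨⟨i1, i2⟩, m1⟩, m2⟩, m3⟩ := hpair _ hm
    obtain ⟨Ya, hYa, ea, la⟩ := exists_pt (fixV_chk _ (Nat.le_of_ble_eq_true i1))
    obtain ⟨Yb, hYb, eb, lb⟩ := exists_pt (fixV_chk _ (Nat.le_of_ble_eq_true i2))
    have h3 := eqv_eq hgen m3
    rw [wprod_app] at h3
    exact ⟨Ya, Yb, smul_of_moveL hgen hYa hA ea eA la lA m1, smul_of_moveL hgen hYb hB eb eB lb lB m2,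
      ea, eb, inv_eq_of_mul_eq_one_right h3⟩
  -- the fixed cosets
  let cg : ℕ → mclGroup := fun c => g1 (c / 40) * t (c % 40)
  have hcand : ∀ c < 800, ∀ k : ℕ, (cg c)⁻¹ * gen k * cg c = wprod gen (candW c k) := fun c hc k => by
    obtain ⟨_, _, -, -, -, -, e⟩ := hp (c / 40) (by omega)
    simp only [candW, wprod_app, wprod_one, cg, mul_inv_rev, e, (ht _ (Nat.mod_lt _ (by norm_num))).2,
      mul_assoc]
    rfl
  have hfxd := fixed_ok
  simp only [fixedChk, Bool.and_eq_true, List.all_eq_true] at hfxd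
  obtain ⟨⟨hfe, hfnd⟩, hsum⟩ := hfxd
  let ι := Fin fixedL.length
  let fe : ι → ℕ × ℕ × ℕ × ℕ := fun a => fixedL[a.1]
  have hfm : ∀ a : ι, fe a ∈ fixedL := fun a => List.getElem_mem _
  have hc800 : ∀ a : ι, (fe a).1 < 800 := fun a => Nat.le_of_ble_eq_true (hfe _ (hfm a)).1.1
  let l : ι → mclGroup := fun a => cg (fe a).1
  let X : ι → EE := fun a => eOf (fe a).2.1
  let Y : ι → EE := fun a => eOf (fe a).2.2.1
  have hX : ∀ a, piE hgen (X a) = (l a)⁻¹ * gen 6 * l a := fun a => by
    rw [piE_apply, (fixed_num _ (hfm a)).1, hcand _ (hc800 a)]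
    exact (eqv_eq hgen (hfe _ (hfm a)).1.2).symm
  have hY : ∀ a, piE hgen (Y a) = (l a)⁻¹ * gen 7 * l a := fun a => by
    rw [piE_apply, (fixed_num _ (hfm a)).2, hcand _ (hc800 a)]
    exact (eqv_eq hgen (hfe _ (hfm a)).2).symm
  have hinj : ∀ a b, (l a)⁻¹ * l b ∈ (piE hgen).range → a = b := by
    intro a b hab
    have hca := hc800 a
    have hcb := hc800 b
    simp only [l, cg] at hab
    generalize hc : (fe a).1 = c at hab hca
    generalize hd : (fe b).1 = d at hab hcb
    obtain ⟨hta, -⟩ := ht (c % 40) (Nat.mod_lt _ (by norm_num))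
    obtain ⟨htb, -⟩ := ht (d % 40) (Nat.mod_lt _ (by norm_num))
    have hgS : (g1 (c / 40))⁻¹ * g1 (d / 40) ∈ S := by
      have := S.mul_mem (S.mul_mem hta (hrange hab)) (S.inv_mem htb)
      simpa [mul_inv_rev, mul_assoc] using this
    obtain ⟨Ya, Yb, a1, a2, a3, a4, -⟩ := hp (c / 40) (by omega)
    obtain ⟨Za, Zb, b1, b2, b3, b4, -⟩ := hp (d / 40) (by omega)
    have s1 : ((g1 (c / 40))⁻¹ * g1 (d / 40)) • A = A := hgS.1
    have s2 : ((g1 (c / 40))⁻¹ * g1 (d / 40)) • B = B := hgS.2
    rw [inv_smul_eq_iff] at a1 a2 b1 b2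
    rw [mul_smul, inv_smul_eq_iff, ← a1, ← b1] at s1
    rw [mul_smul, inv_smul_eq_iff, ← a2, ← b2] at s2
    have hdistinct : c / 40 = d / 40 := by
      have hn := nodupB_spec hpnd
      have hP : (c / 40) < pairsL.length := by omega
      have hQ : (d / 40) < pairsL.length := by omega
      refine (List.Nodup.getElem_inj_iff hn (i := c / 40) (j := d / 40)
        (hi := by rw [List.length_map]; exact hP) (hj := by rw [List.length_map]; exact hQ)).1 ?_
      rw [List.getElem_map, List.getElem_map]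
      rw [List.getD_eq_getElem _ _ hP] at a3 a4
      rw [List.getD_eq_getElem _ _ hQ] at b3 b4
      have hi : ∀ i < fixPts.length, ∀ j < fixPts.length, funL (fixV i) = funL (fixV j) → i = j := by
        intro i hi j hj e
        exact fix_inj i hi j hj (congrArg (fun f => (List.range 24).map fun n => f (pt n)) e)
      have i1 := (hpair _ (List.getElem_mem hP)).1.1.1
      have j1 := (hpair _ (List.getElem_mem hQ)).1.1.1
      rw [hi _ (Nat.le_of_ble_eq_true i1.1) _ (Nat.le_of_ble_eq_true j1.1) (by rw [← a3, ← b3, s1]),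
        hi _ (Nat.le_of_ble_eq_true i1.2) _ (Nat.le_of_ble_eq_true j1.2) (by rw [← a4, ← b4, s2])]
    rw [← hdistinct, mul_inv_rev, mul_assoc, inv_mul_cancel_left] at hab
    have hj := hcos _ (Nat.mod_lt _ (by norm_num)) _ (Nat.mod_lt _ (by norm_num)) hab
    have hcd : c = d := by omega
    have hn := nodupB_spec hfnd
    exact Fin.ext ((List.Nodup.getElem_inj_iff hn (i := a.1) (j := b.1)
      (hi := by rw [List.length_map]; exact a.2) (hj := by rw [List.length_map]; exact b.2)).1
      (by rw [List.getElem_map, List.getElem_map]; exact hc.trans (hcd.trans hd.symm)))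
  have hall : ∀ g : mclGroup, g⁻¹ * gen 6 * g ∈ (piE hgen).range → g⁻¹ * gen 7 * g ∈ (piE hgen).range →
      ∃ a, (l a)⁻¹ * g ∈ (piE hgen).range := by
    intro g h6 h7
    have fixk : ∀ (k : ℕ) (U : leechLattice), g⁻¹ * gen k * g ∈ MulAction.stabilizer mclGroup U →
        gen k • (g • U) = g • U := fun k U h => by
      have h' : (g⁻¹ * gen k * g) • U = U := h
      rwa [mul_smul, mul_smul, inv_smul_eq_iff] at h'
    obtain ⟨i, hi, ei⟩ := hfixed _ (smul_mem_pts g hA) (fixk 6 A (hrange h6).1) (fixk 7 A (hrange h7).1)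
    obtain ⟨j, hj, ej⟩ := hfixed _ (smul_mem_pts g hB) (fixk 6 B (hrange h6).2) (fixk 7 B (hrange h7).2)
    obtain ⟨-, -, -, li⟩ := exists_pt (fixV_chk i hi)
    obtain ⟨-, -, -, lj⟩ := exists_pt (fixV_chk j hj)
    have hdot : dotL (fixV i) (fixV j) = 8 := by
      rw [dotL_eq_dotInt li lj, ← ei, ← ej]
      exact (co0_dot (g : Co0) A B).trans hAB
    obtain ⟨e, he, e1, e2⟩ := (hadj i hi j hj).resolve_left fun h => h hdot
    obtain ⟨p, hp', rfl⟩ := List.getElem_of_mem he
    obtain ⟨Ya, Yb, a1, a2, a3, a4, -⟩ := hp p (hpl' ▸ hp')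
    rw [List.getD_eq_getElem _ _ hp', Nat.eq_of_beq_eq_true e1] at a3
    rw [List.getD_eq_getElem _ _ hp', Nat.eq_of_beq_eq_true e2] at a4
    have hs : (g1 p)⁻¹ * g ∈ S := by
      refine ⟨?_, ?_⟩
      · show ((g1 p)⁻¹ * g) • A = A
        rw [mul_smul, show g • A = Ya from Subtype.ext (ei.trans a3.symm), a1]
      · show ((g1 p)⁻¹ * g) • B = B
        rw [mul_smul, show g • B = Yb from Subtype.ext (ej.trans a4.symm), a2]
    obtain ⟨m, hm, hmem⟩ := hcover _ hs
    have hgc : (cg (40 * p + m))⁻¹ * g ∈ (piE hgen).range := by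
      simp only [cg, show (40 * p + m) / 40 = p by omega, show (40 * p + m) % 40 = m by omega,
        mul_inv_rev, mul_assoc]
      exact hmem
    have hc : 40 * p + m < 800 := by have := hpl' ▸ hp'; omega
    have hk : ∀ k, g⁻¹ * gen k * g ∈ (piE hgen).range →
        ¬ notIn (codeW (candW (40 * p + m) k)) tblP = true := fun k hk hnot => by
      refine not_mem_range hgen hnot ?_
      rw [← hcand _ hc]
      have := Subgroup.mul_mem _ (Subgroup.mul_mem _ hgc hk) (Subgroup.inv_mem _ hgc)
      simpa [mul_inv_rev, mul_assoc] using this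
    have hch := cand_ok p (hpl' ▸ hp')
    simp only [candChk, List.all_eq_true, List.mem_range'_1, Bool.or_eq_true, List.any_eq_true] at hch
    rcases hch (40 * p + m) ⟨by omega, by omega⟩ with (⟨e', he', e3⟩ | h) | h
    · obtain ⟨a, ha, rfl⟩ := List.getElem_of_mem he'
      refine ⟨⟨a, ha⟩, ?_⟩
      show (cg fixedL[a].1)⁻¹ * g ∈ _
      rw [Nat.eq_of_beq_eq_true e3]
      exact hgc
    · exact absurd h (hk 6 h6)
    · exact absurd h (hk 7 h7)
  -- the product of the commutators
  have hzk : zE ∈ (piE hgen).ker := by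
    rw [MonoidHom.mem_ker, piE_apply, wordI_zero_z, wordI_zero]; rfl
  have hcomm : ∀ a, ⁅X a, Y a⁆ = zE ^ (fe a).2.2.2 := fun a => by
    rw [commutatorElement_def, mul_inv_eq_iff_eq_mul, mul_inv_eq_iff_eq_mul, fixed_comm _ (hfm a),
      mul_assoc]
  have hk : ((Finset.univ : Finset ι).toList.map fun a => ⁅X a, Y a⁆).prod =
      ((⟨zE, hzk⟩ : (piE hgen).ker) : EE) := by
    have e : ∀ L : List ι, (L.map fun a => ⁅X a, Y a⁆).prod =
        zE ^ (L.map fun a => (fe a).2.2.2).sum := fun L => by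
      induction L with
      | nil => simp
      | cons a L ih =>
        rw [List.map_cons, List.prod_cons, ih, hcomm, ← pow_add, List.map_cons, List.sum_cons]
    rw [e, Finset.sum_map_toList]
    have es : ∑ a : ι, (fe a).2.2.2 = (fixedL.map fun e => e.2.2.2).sum := by
      rw [← List.sum_ofFn]
      exact congrArg List.sum (List.ofFn_getElem_eq_map fixedL fun e => e.2.2.2)
    rw [es, pow_eq_pow_mod _ zE_three, Nat.eq_of_beq_eq_true hsum, pow_one]
  haveI : Finite EE := Finite.of_equiv _ SemidirectProduct.equivProd.symm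
  obtain ⟨Γ, _, _, τ, hτ, hd⟩ := CfsgLib.KnownA.Cores.exists_stem_of_pair (piE hgen) (ker_central hgen)
    (gen 6) (gen 7) (gen_comm67 hgen).eq
    (cyclic_below (gen_three hgen (by omega)) (gen_three hgen (by omega)) (gen_comm67 hgen))
    l X Y hX hY hinj hall ⟨zE, hzk⟩ hk
  refine ⟨Γ, inferInstance, inferInstance, τ, hτ, ?_⟩
  have : Fact (Nat.Prime 3) := ⟨Nat.prime_three⟩
  rwa [← Subgroup.orderOf_coe, orderOf_eq_prime zE_three zE_ne] at hd

end CfsgLib.KnownA.SchurCert.McLCert
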