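import Cfsg.Agent.Lib.KnownA.McLSchur.CoverDefs
import Mathlib.Tactic.IntervalCases

/-! The checks for the triple cover of the McLaughlin group. -/

set_option autoImplicit false
set_option maxRecDepth 100000
set_option Elab.async false

namespace CfsgLib.KnownA.SchurCert.McLCert

theorem pts_ok : ptsChk = true := by decide +kernel

theorem fix_ok : fixChk = true := by decide +kernel

theorem move_ok : moveChk = true := by decide +kernel

theorem rel_ok : relChk = true := by decide +kernel

theorem tbl_ok : tblChk = true := by decide +kernel

theorem rep_ok : repChk = true := by decide +kernel

theorem fixed_ok : fixedChk = true := by decide +kernel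

theorem cand_ok0 : candChk 0 40 = true := by decide +kernel

theorem cand_ok1 : candChk 40 40 = true := by decide +kernel

theorem cand_ok2 : candChk 80 40 = true := by decide +kernel

theorem cand_ok3 : candChk 120 40 = true := by decide +kernel

theorem cand_ok4 : candChk 160 40 = true := by decide +kernel

theorem cand_ok5 : candChk 200 40 = true := by decide +kernel

theorem cand_ok6 : candChk 240 40 = true := by decide +kernel

theorem cand_ok7 : candChk 280 40 = true := by decide +kernel

theorem cand_ok8 : candChk 320 40 = true := by decide +kernel

theorem cand_ok9 : candChk 360 40 = true := by decide +kernel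

theorem cand_ok10 : candChk 400 40 = true := by decide +kernel

theorem cand_ok11 : candChk 440 40 = true := by decide +kernel

theorem cand_ok12 : candChk 480 40 = true := by decide +kernel

theorem cand_ok13 : candChk 520 40 = true := by decide +kernel

theorem cand_ok14 : candChk 560 40 = true := by decide +kernel

theorem cand_ok15 : candChk 600 40 = true := by decide +kernel

theorem cand_ok16 : candChk 640 40 = true := by decide +kernel

theorem cand_ok17 : candChk 680 40 = true := by decide +kernel

theorem cand_ok18 : candChk 720 40 = true := by decide +kernel

theorem cand_ok19 : candChk 760 40 = true := by decide +kernel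

theorem cand_ok : ∀ j < 20, candChk (40 * j) 40 = true := by
  intro j hj
  interval_cases j
  exacts [cand_ok0, cand_ok1, cand_ok2, cand_ok3, cand_ok4, cand_ok5, cand_ok6, cand_ok7, cand_ok8, cand_ok9, cand_ok10, cand_ok11, cand_ok12, cand_ok13, cand_ok14, cand_ok15, cand_ok16, cand_ok17, cand_ok18, cand_ok19]

end CfsgLib.KnownA.SchurCert.McLCert
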