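import Cfsg.Agent.Lib.KnownA.McLSchur.CoverMats
import Cfsg.Agent.Lib.KnownA.McLSchur.CoverData

/-!
The kernel checks for the fixed cosets of two commuting elements in the McLaughlin group, modulo a
subgroup of order 729 with a central extension by a group of order 3.
-/

set_option autoImplicit false
set_option maxRecDepth 100000

namespace CfsgLib.KnownA.SchurCert.McLCert

open CfsgLib.Golay CfsgLib.KnownA.SchurCert.Co3Cert

/-- The word of a member of the subgroup. -/
def wordI (i : ℕ) : List ℕ := (List.range 6).flatMap fun k => List.replicate (i / 3 ^ k % 3) k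

/-- The reduced image of the test vector. -/
def codeW (w : List ℕ) : ℕ :=
  pack ((List.range 24).map fun j => slot j (vecW rowsCov testVec w))

/-- The coordinates modulo 17. -/
def ptV (v : List ℤ) : ℕ := pack (v.map fun a => (a % 17).toNat)

/-- The inverse of the word maps the first vector to the second. -/
def moveL (v : List ℤ) (w : List ℕ) (v' : List ℤ) : Bool :=
  sameV (vecW rowsCov (ptV v) w) (ptV v')

/-- One of the 275 vectors. -/
def chkPt (v : List ℤ) : Bool :=
  Nat.beq v.length 24 && inLatL v && decide (dotL v v = 32) && decide (dotL fiveL v = 24) &&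
    decide (dotL minL v = 16)

/-- Absent from the list. -/
def notIn (c : ℕ) : List ℕ → Bool
  | [] => true
  | a :: l => !(Nat.beq a c) && notIn c l

/-- No repetitions. -/
def nodupB : List ℕ → Bool
  | [] => true
  | a :: l => notIn a l && nodupB l

/-- The member of the list of fixed vectors. -/
def fixV (i : ℕ) : List ℤ := fixPts.getD i []

/-- The word of a pair of fixed vectors. -/
def pairW (p : ℕ) : List ℕ × List ℕ := (pairsL.getD p ((0, 0), [], [])).2

/-- The word of a coset representative. -/
def repW (j : ℕ) : List ℕ × List ℕ := repsL.getD j ([], [])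

/-- The word of a conjugate. -/
def candW (c k : ℕ) : List ℕ :=
  (repW (c % 40)).2 ++ (pairW (c / 40)).2 ++ [k] ++ (pairW (c / 40)).1 ++ (repW (c % 40)).1

/-- The 275 vectors. -/
def ptsChk : Bool :=
  Nat.beq pts275.length 275 && pts275.all chkPt && nodupB (pts275.map ptV) && chkPt baseA && chkPt baseB &&
    decide (dotL baseA baseB = 8)

/-- The vectors fixed by both elements. -/
def fixChk : Bool :=
  decide ((pts275.filter fun v => moveL v [6] v && moveL v [7] v).map ptV = fixPts.map ptV) &&
    fixPts.all chkPt &&
    ((List.range fixPts.length).all fun i => (List.range fixPts.length).all fun j =>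
      !decide (dotL (fixV i) (fixV j) = 8) || pairsL.any fun e => Nat.beq e.1.1 i && Nat.beq e.1.2 j)

/-- The words of the pairs and of the coset representatives. -/
def moveChk : Bool :=
  Nat.beq pairsL.length 20 && Nat.beq repsL.length 40 &&
  (pairsL.all fun e => Nat.blt e.1.1 fixPts.length && Nat.blt e.1.2 fixPts.length &&
    moveL (fixV e.1.1) e.2.1 baseA && moveL (fixV e.1.2) e.2.1 baseB && eqv rowsCov (e.2.1 ++ e.2.2) []) &&
  nodupB (pairsL.map fun e => 8 * e.1.1 + e.1.2) &&
  (repsL.all fun e => moveL baseA e.1 baseA && moveL baseB e.1 baseB && eqv rowsCov (e.1 ++ e.2) []) &&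
  ((List.range 6).all fun k => moveL baseA [k] baseA && moveL baseB [k] baseB)

/-- The relations. -/
def relChk : Bool :=
  ((List.range 8).all fun k => eqv rowsCov [k, k, k] []) &&
  ((List.range 4).all fun i => (List.range 4).all fun j => eqv rowsCov [i, j] [j, i]) &&
  eqv rowsCov [4, 5] [5, 4] && eqv rowsCov [6, 7] [7, 6]

/-- The table of the subgroup. -/
def tblChk : Bool :=
  decide (tblP = (List.range 729).map fun i => codeW (wordI i)) && nodupB tblP

/-- The cosets are different. -/
def repChk : Bool :=
  (List.range 40).all fun j => (List.range j).all fun i => notIn (codeW ((repW i).2 ++ (repW j).1)) tblP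

/-- The cosets outside the list are not fixed. -/
def candChk (lo len : ℕ) : Bool :=
  (List.range' lo len).all fun c => (fixedL.any fun e => Nat.beq e.1 c) ||
    notIn (codeW (candW c 6)) tblP || notIn (codeW (candW c 7)) tblP

/-- The conjugates at the fixed cosets. -/
def fixedChk : Bool :=
  (fixedL.all fun e => Nat.blt e.1 800 && eqv rowsCov (candW e.1 6) (wordI e.2.1) &&
    eqv rowsCov (candW e.1 7) (wordI e.2.2.1)) &&
  nodupB (fixedL.map Prod.fst) && Nat.beq ((fixedL.map fun e => e.2.2.2).sum % 3) 1

end CfsgLib.KnownA.SchurCert.McLCert
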