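import Cfsg.Agent.Lib.KnownA.Co3SchurDefs
import Cfsg.Agent.Lib.KnownA.JankoThreeSchur.Lanes
import Cfsg.Agent.Lib.Golay.MatrixFast
import Cfsg.Agent.Lib.Golay.Co0McLGroup

/-!
The kernel checks of `SchurCert` for subgroups of the stabiliser in `Co0` of two vectors (the
McLaughlin group).
-/

set_option autoImplicit false
set_option maxRecDepth 100000
set_option maxHeartbeats 1000000

namespace CfsgLib.KnownA.SchurCert.McLCert

open Cfsg CfsgLib.Golay CfsgLib.KnownA.SchurCert.Co3Cert

/-- Lanes of four bits, in fields of width 128. -/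
def decNib (i x : ℕ) : ℕ := field 128 i x

/-- The coordinates of `five`. -/
def fiveL : List ℤ := List.replicate 23 1 ++ [5]

/-- The coordinates of `min44`. -/
def minL : List ℤ := 4 :: (List.replicate 22 0 ++ [4])

/-- The vector is fixed. -/
def fixL (L : List (List ℤ)) (v : List ℤ) : Bool :=
  (List.range 24).all fun i => decide (dotL (L.getD i []) v = 8 * v.getD i 0)

/-- The packed rows belong to the matrix. -/
def rowsL (L : List (List ℤ)) (R : List ℕ) : Bool :=
  (List.range 24).all fun j =>
    Nat.beq (R.getD j 0) (pack ((L.getD j []).map fun a => (15 * a % 17).toNat))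

/-- The checks on one matrix. -/
def chkM (L T : List (List ℤ)) (R : List ℕ) : Bool :=
  fastOK L T && fixL L fiveL && fixL L minL && rowsL L R

/-- All the matrices. -/
def checkM (Ls Ts : List (List (List ℤ))) (Rs : List (List ℕ)) : Bool :=
  Nat.beq Ls.length Ts.length && Nat.beq Ls.length Rs.length &&
    (List.range (Ls.length + 1)).all fun k => chkM (Ls.getD k idM) (Ts.getD k idM) (Rs.getD k idR)

theorem checkM_of_parts (Ls Ts : List (List (List ℤ))) (Rs : List (List ℕ)) (n : ℕ)
    (hL : Ls.length = n) (hT : Ts.length = n) (hR : Rs.length = n)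
    (h : ∀ j < n + 1, chkM (Ls.getD j idM) (Ts.getD j idM) (Rs.getD j idR) = true) :
    checkM Ls Ts Rs = true := by
  simp only [checkM, Bool.and_eq_true, List.all_eq_true, List.mem_range]
  exact ⟨⟨by rw [hL, hT]; exact Nat.beq_refl n, by rw [hL, hR]; exact Nat.beq_refl n⟩,
    fun k hk => h k (by omega)⟩

theorem funL_fiveL : funL fiveL = (fiveV : GolayPt → ℤ) :=
  funext (by decide +kernel : ∀ i, funL fiveL i = (fiveV : GolayPt → ℤ) i)

theorem funL_minL : funL minL = (min44 : GolayPt → ℤ) :=
  funext (by decide +kernel : ∀ i, funL minL i = (min44 : GolayPt → ℤ) i)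

theorem fix_of_fixL {L : List (List ℤ)} (hs : shapeL L = true) {v : List ℤ} (hv : v.length = 24)
    (h : fixL L v = true) : ∀ i, matFun (getM L) (funL v) i = funL v i := by
  obtain ⟨-, hrow⟩ := shapeL_spec hs
  simp only [fixL, List.all_eq_true, List.mem_range, decide_eq_true_iff] at h
  intro i
  have h' := h _ (idx_lt i)
  rw [dotL_eq_dotInt (hrow _ (idx_lt i)) hv] at h'
  show dotInt (funL (L.getD (idx i) [])) (funL v) / 8 = funL v i
  rw [h', Int.mul_ediv_cancel_left _ (by norm_num : (8 : ℤ) ≠ 0)]
  rfl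

theorem matChk_of_chkM {L T : List (List ℤ)} {R : List ℕ} (h : chkM L T R = true) :
    matChk L R = true ∧ ∀ i, matFun (getM L) (min44 : GolayPt → ℤ) i = (min44 : GolayPt → ℤ) i := by
  simp only [chkM, Bool.and_eq_true] at h
  obtain ⟨⟨⟨h1, h2⟩, h3⟩, h4⟩ := h
  have hs : shapeL L = true := by
    simp only [fastOK, Bool.and_eq_true] at h1
    exact h1.1.1.1.1.1.1
  obtain ⟨-, hrow⟩ := shapeL_spec hs
  refine ⟨?_, fun i => ?_⟩
  · simp only [matChk, Bool.and_eq_true, List.all_eq_true, List.mem_range, decide_eq_true_iff]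
    refine ⟨⟨matOK_of_fast h1, fun i _ => ?_⟩, fun j hj => ?_⟩
    · have := fix_of_fixL hs (by decide) h2 (pt i)
      rw [funL_fiveL] at this
      exact this
    · simp only [rowsL, List.all_eq_true, List.mem_range] at h4
      rw [Nat.eq_of_beq_eq_true (h4 j hj)]
      have e : (L.getD j []).map (fun a => (15 * a % 17).toNat) = (List.range 24).map (entry L j) := by
        have hl := hrow j hj
        generalize hr : L.getD j [] = r at hl ⊢
        refine List.ext_getElem (by rw [List.length_map, List.length_map, List.length_range, hl])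
          fun i h5 h6 => ?_
        simp only [List.getElem_map, List.getElem_range]
        have hi : i < 24 := by rw [List.length_map, List.length_range] at h6; exact h6
        show _ = ((15 * getM L (pt j) (pt i) % 17) : ℤ).toNat
        simp only [getM, idx_pt hj, idx_pt hi, hr]
        rw [List.getD_eq_getElem _ _ (by rw [hl]; exact hi)]
      rw [e]
      exact Nat.beq_refl _
  · have := fix_of_fixL hs (by decide) h3 i
    rw [funL_minL] at this
    exact this

theorem exists_gen {Ls Ts : List (List (List ℤ))} {Rs : List (List ℕ)}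
    (h : checkM Ls Ts Rs = true) :
    ∃ gen : ℕ → mclGroup, ∀ (v : ℕ) (w : List ℕ),
      decV (vecW Rs v w) = Matrix.vecMul (decV v) (rho ((wprod gen w : mclGroup) : Co0)) := by
  simp only [checkM, Bool.and_eq_true, List.all_eq_true, List.mem_range] at h
  obtain ⟨⟨hT, hR⟩, hchk⟩ := h
  have hall : ∀ k, ∃ T, chkM (Ls.getD k idM) T (Rs.getD k idR) = true := by
    intro k
    rcases Nat.lt_or_ge k (Ls.length + 1) with hk | hk
    · exact ⟨_, hchk k hk⟩
    · have := hchk Ls.length (Nat.lt_succ_self _)
      rw [List.getD_eq_default _ _ le_rfl, List.getD_eq_default (d := idR) _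
        (Nat.eq_of_beq_eq_true hR).ge] at this
      rw [List.getD_eq_default _ _ (by omega),
        List.getD_eq_default (d := idR) _ (by rw [← Nat.eq_of_beq_eq_true hR]; omega)]
      exact ⟨_, this⟩
  have hex : ∀ k, ∃ g : mclGroup, ∀ (v : ℕ),
      decV (vecMul v (Rs.getD k idR)) = Matrix.vecMul (decV v) (rho (g : Co0)) := by
    intro k
    obtain ⟨T, hk⟩ := hall k
    obtain ⟨hk', hmin⟩ := matChk_of_chkM hk
    have hk'' := hk'
    simp only [matChk, Bool.and_eq_true, List.all_eq_true, List.mem_range, decide_eq_true_iff] at hk''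
    obtain ⟨⟨hok, hfix⟩, -⟩ := hk''
    refine ⟨⟨matCo0 _ hok, MulAction.mem_stabilizer_iff.2 (Subtype.ext (funext fun i => ?_)),
      MulAction.mem_stabilizer_iff.2 (Subtype.ext (funext fun i => ?_))⟩,
      fun v => funext fun p => ?_⟩
    · rw [matCo0_smul]
      have := hfix _ (idx_lt i)
      rw [pt_idx] at this
      exact this
    · rw [matCo0_smul]
      exact hmin i
    · exact decV_vecMul_rho hk' hok v p
  choose gen hgen using hex
  refine ⟨gen, fun v w => ?_⟩
  induction w generalizing v with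
  | nil => simp [vecW, wprod, rho_one]
  | cons k w ih =>
    have hw : wprod gen (k :: w) = gen k * wprod gen w := by
      rw [wprod, List.map_cons, List.prod_cons, wprod]
    rw [vecW, ih, hgen, Matrix.vecMul_vecMul, ← rho_mul, hw, Subgroup.coe_mul]

theorem eqv_sound {Rs : List (List ℕ)} {gen : ℕ → mclGroup}
    (hgen : ∀ (v : ℕ) (w : List ℕ),
      decV (vecW Rs v w) = Matrix.vecMul (decV v) (rho ((wprod gen w : mclGroup) : Co0)))
    {w w' : List ℕ} (hww : eqv Rs w w' = true) : wprod gen w = wprod gen w' := by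
  simp only [eqv, cond_eq_ite] at hww
  split_ifs at hww
  simp only [List.all_eq_true, List.mem_range, sameV_iff] at hww
  refine Subtype.ext (rho_inj ?_)
  ext q p
  have e := congrFun (hww _ (idx_lt q)) p
  rw [hgen, hgen] at e
  simpa [Matrix.vecMul, dotProduct, decV_unit, ite_mul] using e

theorem eqv_ne {Rs : List (List ℕ)} {gen : ℕ → mclGroup}
    (hgen : ∀ (v : ℕ) (w : List ℕ),
      decV (vecW Rs v w) = Matrix.vecMul (decV v) (rho ((wprod gen w : mclGroup) : Co0)))
    {w w' : List ℕ} (hww : eqv Rs w w' = false) : wprod gen w ≠ wprod gen w' := by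
  intro heq
  have hsame : ∀ v, sameV (vecW Rs v w) (vecW Rs v w') = true := fun v => by
    rw [sameV_iff, hgen, hgen, heq]
  simp [eqv, hsame] at hww

/-- The checks other than those over all states. -/
def restM {V : Type} (o : Ops V) (C : Cert V) (extras : List ℕ) (Rs : List (List ℕ)) : Bool :=
  C.presOK (eqv Rs) && C.consOK (eqv Rs) && C.finalOK o extras

/-- All the checks. -/
def allM {V : Type} (o : Ops V) (C : Cert V) (extras : List ℕ) (Ls Ts : List (List (List ℤ)))
    (Rs : List (List ℕ)) : Bool :=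
  checkM Ls Ts Rs && restM o C extras Rs && C.edgesOK o && C.injOK (eqv Rs)

/-- The checks from their parts. -/
theorem allM_of_parts {V : Type} (o : Ops V) (C : Cert V) (extras : List ℕ)
    (Ls Ts : List (List (List ℤ)))
    (Rs : List (List ℕ)) (w k : ℕ) (hw : 0 < w) (hN : C.N = w * k)
    (hm : checkM Ls Ts Rs = true) (hr : restM o C extras Rs = true)
    (hp : perPart C = true) (he : ∀ j < k, edgesPart o C (w * j) w = true)
    (hi : ∀ j < k, injPart C Rs (w * j) w = true) : allM o C extras Ls Ts Rs = true := by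
  have e1 : C.edgesOK o = true := by
    rw [Cert.edgesOK, List.all_eq_true]
    intro s hs
    rw [List.mem_range, hN] at hs
    obtain ⟨j, hj, hsj⟩ := exists_part hw hs
    exact List.all_eq_true.1 (he j hj) s hsj
  have e2 : C.injOK (eqv Rs) = true := by
    rw [Cert.injOK, Bool.and_eq_true]
    refine ⟨hp, List.all_eq_true.2 fun s hs => ?_⟩
    rw [List.mem_range, hN] at hs
    obtain ⟨j, hj, hsj⟩ := exists_part hw hs
    exact List.all_eq_true.1 (hi j hj) s hsj
  simp only [allM, hm, hr, e1, e2, Bool.and_self]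

theorem ker_le {V : Type} (o : Ops V) (C : Cert V) (extras : List ℕ)
    (Ls Ts : List (List (List ℤ))) (Rs : List (List ℕ))
    (hev : ∀ {K : Type} [CommGroup K] (τ : ℕ → K), (∀ x : K, x ^ C.p = 1) →
      Nonempty (Ev o C.rels.length τ))
    (hcard : Nat.Coprime C.p (898128000 / C.N)) (h : allM o C extras Ls Ts Rs = true)
    {Γ : Type} [Group Γ] [Finite Γ] {σ : Γ →* mclGroup} (hσ : Cfsg.IsStemExtension σ)
    (hexp : ∀ x ∈ σ.ker, x ^ C.p = 1) :
    ∃ τ : ℕ → Γ, ((∀ r, τ r ∈ σ.ker) ∧ ∀ r q comb, C.boundOK o r q comb = true → τ r ^ q = 1) ∧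
      σ.ker ≤ Subgroup.closure (τ '' {r | r ∈ extras}) := by
  simp only [allM, restM, Bool.and_eq_true] at h
  obtain ⟨⟨⟨hm, ⟨h1, h4⟩, h5⟩, h2⟩, h3⟩ := h
  obtain ⟨gen, hgen⟩ := exists_gen hm
  haveI : Finite mclGroup := Nat.finite_of_card_ne_zero (by rw [card_mclGroup]; norm_num)
  exact ker_le_of_cert (eqv Rs) gen (fun _ _ h => eqv_sound hgen h) (fun _ _ h => eqv_ne hgen h) o C
    extras hev (card_mclGroup ▸ hcard) h1 h2 h3 h4 h5 hσ hexp

end CfsgLib.KnownA.SchurCert.McLCert
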