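import Cfsg.Agent.Lib.KnownA.McLSchur.P2
import Cfsg.Agent.Lib.KnownA.McLSchur.P3
import Cfsg.Agent.Lib.KnownA.McLSchur.P5
import Cfsg.Agent.Lib.KnownA.McLSchur.P7
import Cfsg.Agent.Lib.KnownA.McLSchur.P9
import Cfsg.Agent.Lib.KnownA.McLSchur.P11
import Cfsg.Agent.Lib.KnownA.McLSchur.Cover
import Cfsg.Agent.Lib.Coprime.SchurAbelian

/-!
The Schur multiplier of the McLaughlin group has order 3.
-/

set_option autoImplicit false
set_option maxRecDepth 100000

namespace CfsgLib.KnownA.SchurCert.McLCert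

open Cfsg CfsgLib.Golay CfsgLib.KnownA.SchurCert CfsgLib.KnownA.SchurCert.Co3Cert

/-- Only `3` divides the kernel of a stem extension, and it does so at most once. -/
theorem bound (Γ : Type) [Group Γ] [Finite Γ] (σ : Γ →* mclGroup)
    (hσ : Cfsg.IsStemExtension σ) : IsCyclic σ.ker ∧ Nat.card σ.ker ∣ 3 := by
  have : Finite mclGroup := Nat.finite_of_card_ne_zero (by rw [card_mclGroup]; norm_num)
  have hc := card_mclGroup
  have hother : ∀ p : ℕ, p.Prime → p ≠ 3 → ¬ p ∣ Nat.card σ.ker := by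
    intro p hp hp3
    have : Fact p.Prime := ⟨hp⟩
    intro hdvd
    obtain ⟨z, hz⟩ := exists_prime_orderOf_dvd_card' p hdvd
    have hpG : p ∣ 898128000 := by
      rw [← hc, ← hz, ← Subgroup.orderOf_coe, orderOf_dvd_iff_pow_eq_one]
      exact ker_pow_card hσ (z : Γ) z.2
    have hcases : p = 2 ∨ p = 5 ∨ p = 7 ∨ p = 11 := by
      have h : (898128000 : ℕ) = 2 ^ 7 * 3 ^ 6 * 5 ^ 3 * 7 * 11 := by norm_num
      rw [h] at hpG
      have q := fun {r : ℕ} (hr : r.Prime) (h : p ∣ r) => (Nat.prime_dvd_prime_iff_eq hp hr).1 h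
      rcases (Nat.Prime.dvd_mul hp).1 hpG with h | h
      · rcases (Nat.Prime.dvd_mul hp).1 h with h | h
        · rcases (Nat.Prime.dvd_mul hp).1 h with h | h
          · rcases (Nat.Prime.dvd_mul hp).1 h with h | h
            · exact Or.inl (q Nat.prime_two (hp.dvd_of_dvd_pow h))
            · exact absurd (q Nat.prime_three (hp.dvd_of_dvd_pow h)) hp3
          · exact Or.inr (Or.inl (q Nat.prime_five (hp.dvd_of_dvd_pow h)))
        · exact Or.inr (Or.inr (Or.inl (q (by norm_num) h)))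
      · exact Or.inr (Or.inr (Or.inr (q (by norm_num) h)))
    refine prime_not_dvd_ker p (fun Δ _ _ τ hτ he => ?_) hσ hdvd
    have key : ∀ {τ' : ℕ → Δ}, τ.ker ≤ Subgroup.closure (τ' '' {r | r ∈ ([] : List ℕ)}) → τ.ker = ⊥ :=
      fun h => by simpa using h
    rcases hcases with rfl | rfl | rfl | rfl
    · obtain ⟨_, -, hle⟩ := ker_le _ certMcLP2 [] _ _ _ (fun τ h => ⟨bitEv _ τ h⟩) (by decide +kernel)
        okMcLP2 hτ he
      exact key hle
    · obtain ⟨_, -, hle⟩ := ker_le _ certMcLP5 [] _ _ _ (fun τ h => ⟨modEv 5 _ τ h⟩) (by decide +kernel)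
        okMcLP5 hτ he
      exact key hle
    · obtain ⟨_, -, hle⟩ := ker_le _ certMcLP7 [] _ _ _ (fun τ h => ⟨modEv 7 _ τ h⟩) (by decide +kernel)
        okMcLP7 hτ he
      exact key hle
    · obtain ⟨_, -, hle⟩ := ker_le _ certMcLP11 [] _ _ _ (fun τ h => ⟨modEv 11 _ τ h⟩) (by decide +kernel)
        okMcLP11 hτ he
      exact key hle
  have h9 : ∀ (Δ : Type) [Group Δ] [Finite Δ] (τ : Δ →* mclGroup),
      Cfsg.IsStemExtension τ → (∀ x ∈ τ.ker, x ^ 9 = 1) → ∀ x ∈ τ.ker, x ^ 3 = 1 := by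
    intro Δ _ _ τ hτ he x hx
    obtain ⟨t, ⟨htk, ht⟩, hle⟩ := ker_le _ certMcLP9 _ _ _ _
      (fun τ h => ⟨nibEv (m := 9) (by norm_num) (by norm_num) _ τ h⟩) (by decide +kernel) okMcLP9 hτ he
    have hb := bound_ok
    simp only [List.all_eq_true] at hb
    have key : ∀ y ∈ Subgroup.closure (t '' {r | r ∈ boundMcL.map Prod.fst}),
        y ∈ τ.ker ∧ y ^ 3 = 1 := by
      intro y hy
      induction hy using Subgroup.closure_induction with
      | mem y hy =>
        obtain ⟨r, hr, rfl⟩ := hy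
        obtain ⟨e, he', rfl⟩ := List.mem_map.1 hr
        exact ⟨htk _, ht _ _ _ (hb e he')⟩
      | one => exact ⟨one_mem _, one_pow 3⟩
      | mul a b _ _ ha hb =>
        refine ⟨mul_mem ha.1 hb.1, ?_⟩
        rw [(show Commute a b from (Subgroup.mem_center_iff.mp (hτ.2.1 hb.1) a)).mul_pow, ha.2, hb.2,
          one_mul]
      | inv a _ ha => exact ⟨inv_mem ha.1, by rw [inv_pow, ha.2, inv_one]⟩
    refine (key x ?_).2
    have he' : boundMcL.map Prod.fst = [0, 1, 3, 8] := by decide +kernel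
    rw [he']
    exact hle hx
  let _ : CommGroup σ.ker :=
    { (inferInstance : Group σ.ker) with
      mul_comm := fun a b => Subtype.ext (Subgroup.mem_center_iff.mp (hσ.2.1 b.2) a) }
  have hexp : ∀ x ∈ σ.ker, x ^ 3 = 1 := by
    intro x hx
    let S3 : Subgroup σ.ker := (powMonoidHom 3 : σ.ker →* σ.ker).range
    have hsurj : Function.Surjective fun y : S3 => y ^ 3 := by
      rintro ⟨_, w, rfl⟩
      obtain ⟨y, hy, hyw⟩ := exists_pow_eq_of_exponent 9 3 h9 hσ (w : Γ) w.2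
      refine ⟨⟨⟨y, hy⟩ ^ 3, ⟨y, hy⟩, rfl⟩, Subtype.ext (Subtype.ext ?_)⟩
      show (y ^ 3) ^ 3 = (w : Γ) ^ 3
      rw [← pow_mul]; exact hyw
    have hinj := Finite.injective_iff_surjective.2 hsurj
    have hS3 : Nat.card S3 = 1 := by
      by_contra hne
      obtain ⟨p, hp, hpd⟩ := Nat.exists_prime_and_dvd hne
      rcases eq_or_ne p 3 with rfl | hp3
      · obtain ⟨z, hz⟩ := exists_prime_orderOf_dvd_card' 3 hpd
        have h := hinj (a₁ := z) (a₂ := 1) (by simp only [one_pow, ← hz, pow_orderOf_eq_one])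
        rw [h, orderOf_one] at hz
        omega
      · exact hother p hp hp3 (hpd.trans (Subgroup.card_subgroup_dvd_card S3))
    have : (⟨x, hx⟩ : σ.ker) ^ 3 ∈ S3 := ⟨⟨x, hx⟩, rfl⟩
    rw [Subgroup.card_eq_one.1 hS3, Subgroup.mem_bot] at this
    simpa using congrArg Subtype.val this
  obtain ⟨t, ⟨htk, -⟩, hle⟩ := ker_le _ certMcLP3 _ _ _ _
    (fun τ h => ⟨nibEv (m := 3) (by norm_num) (by norm_num) _ τ h⟩) (by decide +kernel) okMcLP3 hσ hexp
  rw [show {r | r ∈ [8]} = ({8} : Set ℕ) by ext; simp, Set.image_singleton,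
    ← Subgroup.zpowers_eq_closure] at hle
  have heq : σ.ker = Subgroup.zpowers (t 8) :=
    le_antisymm hle (Subgroup.zpowers_le.2 (htk 8))
  rw [heq]
  exact ⟨inferInstance, by rw [Nat.card_zpowers]; exact orderOf_dvd_of_pow_eq_one (hexp _ (htk 8))⟩

end CfsgLib.KnownA.SchurCert.McLCert
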